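import Groth.Agent.AlgSp.K606.FppfRepSp
import Groth.Agent.PicLoc.K727.Sec
import Groth.Agent.Etbase.FpqcDescent
import Groth.Prelude.Def_PicLoc2
import Mathlib.AlgebraicGeometry.Morphisms.LocalFlatDescent

/-!
# Étale local nature of representability by affine morphisms of finite presentation

* `exists_representableBy_of_etale` : étale descent of representability for étale sheaves with values in any universe;
* `of_flat_cover` : a property of morphisms which is Zariski local on the target and descends along fppf coverings may be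
  checked on a family of flat morphisms locally of finite presentation;
* `mapRepWith_of_etale_local` : a map of étale sheaves is representable by affine morphisms locally of finite presentation as
  soon as its fibres over sections on affine schemes are, étale locally.
-/

set_option autoImplicit false
universe w u

open CategoryTheory CategoryTheory.Limits AlgebraicGeometry Opposite

namespace K472.EtLocal

open Groth.Agent.Sga3B.RepDescent K606.FppfRepSp

section rep

variable {S : Scheme.{u}}

/-- The étale sheaf condition for small families, values in any universe. -/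
def IsEtSheafW (F : (Over S)ᵒᵖ ⥤ Type w) : Prop :=
  ∀ {T : Over S} {ι : Type u} (T' : ι → Over S) (f : ∀ i, T' i ⟶ T), (∀ i, Etale (f i).left) →
    (∀ t : T.left, ∃ (i : ι) (t' : (T' i).left), (f i).left t' = t) →
    ∀ x : ∀ i, F.obj (op (T' i)),
      (∀ (i j : ι) (R : Over S) (a : R ⟶ T' i) (b : R ⟶ T' j), a ≫ f i = b ≫ f j →
        F.map a.op (x i) = F.map b.op (x j)) →
      ∃! y : F.obj (op T), ∀ i, F.map (f i).op y = x i

theorem isEtSheaf_shr (F : (Over S)ᵒᵖ ⥤ Type w) [∀ X, Small.{u} (F.obj X)] (hF : IsEtSheafW F) : IsEtSheaf (shr F) := by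
  intro T ι T' f h1 h3 x hx
  obtain ⟨y, hy, hy'⟩ := hF T' f h1 h3 (fun i => (eS F _).symm (x i)) (fun i j R a b hab => by
    have := hx i j R a b hab
    rw [shr_map, shr_map] at this
    exact (eS F _).injective this)
  refine ⟨eS F _ y, fun i => ?_, fun z hz => ?_⟩
  · rw [shr_map', hy i, Equiv.apply_symm_apply]
  · rw [← hy' ((eS F _).symm z) fun i => ?_, Equiv.apply_symm_apply]
    rw [← hz i, shr_map, Equiv.symm_apply_apply]

/-- Sections of a sheaf which is representable over the members of an étale cover form small sets. -/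
theorem small_of_local {F : (Over S)ᵒᵖ ⥤ Type w} (hF : IsEtSheafW F)
    (h : ∀ s : S, ∃ (V : Scheme.{u}) (v : V ⟶ S), Etale v ∧ s ∈ Set.range v ∧
      ∃ (A' : Over V), Nonempty (((Over.map v).op ⋙ F).RepresentableBy A')) (T : (Over S)ᵒᵖ) :
    Small.{u} (F.obj T) := by
  choose V v hv hs A' hA using h
  obtain ⟨T, rfl⟩ : ∃ T', T = op T' := ⟨T.unop, rfl⟩
  -- the cover of `T`
  let W : S → Over S := fun s => (Over.map (v s)).obj (Over.mk (pullback.snd T.hom (v s)))
  let g : ∀ s, W s ⟶ T := fun s => Over.homMk (pullback.fst T.hom (v s)) pullback.condition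
  have hW : ∀ s, Small.{u} (F.obj (op (W s))) := fun s => by
    let e := (hA s).some.homEquiv (X := Over.mk (pullback.snd T.hom (v s)))
    exact small_map e.symm
  have hinj : Function.Injective (fun (x : F.obj (op T)) (s : S) => F.map (g s).op x) := by
    intro x y hxy
    obtain ⟨z, hz, hz'⟩ := hF (T := T) (ι := ULift.{u} S) (fun s => W s.down) (fun s => g s.down)
      (fun s => by
        have := hv s.down
        change Etale (pullback.fst T.hom (v s.down))
        infer_instance)
      (fun t => by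
        obtain ⟨b, hb⟩ := hs (T.hom t)
        obtain ⟨τ, hτ1, hτ2⟩ := Scheme.Pullback.exists_preimage_pullback (f := T.hom) (g := v (T.hom t)) t b hb.symm
        exact ⟨⟨T.hom t⟩, τ, hτ1⟩)
      (fun s => F.map (g s.down).op y) (fun i j R a b hab => by
        rw [← Functor.map_comp_apply, ← Functor.map_comp_apply, ← op_comp, ← op_comp, hab])
    rw [hz' x fun s => congrFun hxy s.down, hz' y fun s => rfl]
  exact small_of_injective hinj

/-- **Étale descent of representability**, values in any universe. -/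
theorem exists_representableBy_of_etale {F : (Over S)ᵒᵖ ⥤ Type w} (hF : IsEtSheafW F)
    (h : ∀ s : S, ∃ (V : Scheme.{u}) (v : V ⟶ S), Etale v ∧ s ∈ Set.range v ∧
      ∃ (A' : Over V), Nonempty (((Over.map v).op ⋙ F).RepresentableBy A') ∧
      ∀ U : A'.left.Opens, IsCompact (U : Set A'.left) → (U : Scheme.{u}).IsQuasiAffine) :
    ∃ A : Over S, Nonempty (F.RepresentableBy A) := by
  have hsm : ∀ T, Small.{u} (F.obj T) := small_of_local hF fun s => by
    obtain ⟨V, v, h1, h3, A', h4, -⟩ := h s
    exact ⟨V, v, h1, h3, A', h4⟩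
  obtain ⟨A, ⟨r⟩⟩ := Groth.Agent.Sga3B.RepDescent.exists_representableBy_of_etale (isEtSheaf_shr F hF) fun s => by
    obtain ⟨V, v, h1, h3, A', ⟨r⟩, h5⟩ := h s
    exact ⟨V, v, h1, h3, A', ⟨repShr F v r⟩, h5⟩
  exact ⟨A, ⟨repOfShr F r⟩⟩

/-- The base change of a representing object. -/
noncomputable def repPullback {F : (Over S)ᵒᵖ ⥤ Type w} {A : Over S} (r : F.RepresentableBy A) {V : Scheme.{u}}
    (v : V ⟶ S) : ((Over.map v).op ⋙ F).RepresentableBy ((Over.pullback v).obj A) where
  homEquiv {X} := ((Over.mapPullbackAdj v).homEquiv X A).symm.trans r.homEquiv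
  homEquiv_comp f g := by
    change r.homEquiv (((Over.mapPullbackAdj v).homEquiv _ A).symm (f ≫ g)) =
      F.map ((Over.map v).map f).op (r.homEquiv (((Over.mapPullbackAdj v).homEquiv _ A).symm g))
    rw [Adjunction.homEquiv_naturality_left_symm, r.homEquiv_comp]

end rep

/-- A property which is Zariski local on the target and descends along fppf morphisms may be checked on an fppf covering. -/
theorem of_flat_cover (P : MorphismProperty Scheme.{u}) [IsZariskiLocalAtTarget P]
    [P.DescendsAlong (@Surjective ⊓ @Flat ⊓ @LocallyOfFinitePresentation)] {X S : Scheme.{u}} (f : X ⟶ S)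
    (h : ∀ s : S, ∃ (V : Scheme.{u}) (v : V ⟶ S), Flat v ∧ LocallyOfFinitePresentation v ∧ s ∈ Set.range v ∧
      P (pullback.snd f v)) : P f := by
  choose V v h1 h2 h3 h4 using h
  let O : S → S.Opens := fun s => ⟨Set.range (v s), (v s).isOpenMap.isOpen_range⟩
  refine IsZariskiLocalAtTarget.of_iSup_eq_top O (eq_top_iff.2 fun s _ =>
    TopologicalSpace.Opens.mem_iSup.2 ⟨s, h3 s⟩) fun s => ?_
  let q : V s ⟶ O s := IsOpenImmersion.lift (O s).ι (v s) (by
    rw [Scheme.Opens.range_ι]
    exact subset_rfl)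
  have hq : q ≫ (O s).ι = v s := IsOpenImmersion.lift_fac _ _ _
  have hqs : Surjective q := ⟨by
    rintro ⟨_, y, rfl⟩
    refine ⟨y, (O s).ι.isOpenEmbedding.injective ?_⟩
    rw [← Scheme.Hom.comp_apply, hq]
    rfl⟩
  have hpq : IsPullback (𝟙 (V s)) q (v s) (O s).ι := by
    refine ⟨⟨by rw [hq, Category.id_comp]⟩, ⟨PullbackCone.IsLimit.mk _ (fun c => c.fst) (fun c => Category.comp_id _)
      (fun c => ?_) (fun c m h7 _ => ?_)⟩⟩
    · rw [← cancel_mono (O s).ι, Category.assoc, hq]
      exact c.condition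
    · rw [← h7, Category.comp_id]
  have hqf : Flat q := MorphismProperty.of_isPullback (P := @Flat) hpq (h1 s)
  have hql : LocallyOfFinitePresentation q :=
    MorphismProperty.of_isPullback (P := @LocallyOfFinitePresentation) hpq (h2 s)
  have hpb : IsPullback (pullback.snd q (f ∣_ O s) ≫ (f ⁻¹ᵁ O s).ι) (pullback.fst q (f ∣_ O s)) f (v s) := by
    have h5 := (IsPullback.of_hasPullback q (f ∣_ O s)).flip.paste_horiz (isPullback_morphismRestrict f (O s)).flip
    rwa [hq] at h5
  have h6 : pullback.fst q (f ∣_ O s) = hpb.isoPullback.hom ≫ pullback.snd f (v s) := hpb.isoPullback_hom_snd.symm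
  refine MorphismProperty.of_pullback_fst_of_descendsAlong (P := P)
    (Q := @Surjective ⊓ @Flat ⊓ @LocallyOfFinitePresentation) (f := q) ⟨⟨hqs, hqf⟩, hql⟩ ?_
  rw [h6]
  exact (MorphismProperty.cancel_left_of_respectsIso P _ _).2 (h4 s)

section sheaf

variable {S : Scheme.{u}}

theorem isEtSheafW_of_isSheaf {F : (Over S)ᵒᵖ ⥤ Type (u + 1)}
    (hF : Presheaf.IsSheaf (QuotSh.J Scheme.etalePrecoverage S) F) : IsEtSheafW F := by
  intro T ι T' f h1 h3 x hx
  have hp : Sieve.ofArrows T' f ∈ QuotSh.J Scheme.etalePrecoverage S T := by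
    rw [K727.Sec.mem_etale_iff]
    intro t
    obtain ⟨i, t', ht⟩ := h3 t
    exact ⟨T' i, f i, Sieve.ofArrows_mk _ _ i, h1 i, t', ht⟩
  have h2 : (Presieve.ofArrows T' f).IsSheafFor F :=
    (Presieve.isSheafFor_iff_generate _).2 (((isSheaf_iff_isSheaf_of_type _ F).1 hF) _ hp)
  obtain ⟨s, hs, hs'⟩ := (Presieve.isSheafFor_arrows_iff _ _).1 h2 x fun a b Z ga gb e => hx a b Z ga gb e
  exact ⟨s, hs, hs'⟩

variable {F F' : (Over S)ᵒᵖ ⥤ Type (u + 1)} (a : F ⟶ F')

/-- The fibres of a map of étale sheaves are étale sheaves. -/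
theorem isEtSheafW_fiberFun (hF : IsEtSheafW F) (hF' : IsEtSheafW F') (T : Over S) (ξ : F'.obj (op T)) :
    IsEtSheafW (AlgSp.fiberFun a T ξ) := by
  intro X ι X' g h1 h3 x hx
  obtain ⟨y, hy, hy'⟩ := hF (T := (Over.map T.hom).obj X) (fun i => (Over.map T.hom).obj (X' i))
    (fun i => (Over.map T.hom).map (g i)) h1 h3 (fun i => (x i).1) (by
    intro i j Z b c hbc
    have e1 : b.left ≫ (g i).left = c.left ≫ (g j).left := congrArg (·.left) hbc
    have hb : c.left ≫ (X' j).hom = b.left ≫ (X' i).hom := by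
      rw [← Over.w (g i), ← Over.w (g j), ← Category.assoc, ← Category.assoc, e1]
    let R : Over T.left := Over.mk (b.left ≫ (X' i).hom)
    let b' : R ⟶ X' i := Over.homMk b.left rfl
    let c' : R ⟶ X' j := Over.homMk c.left hb
    have e2 : b' ≫ g i = c' ≫ g j := by ext; exact e1
    have e3 : F.map ((Over.map T.hom).map b').op (x i).1 = F.map ((Over.map T.hom).map c').op (x j).1 :=
      congrArg Subtype.val (hx i j R b' c' e2)
    let d : Z ⟶ (Over.map T.hom).obj R := Over.homMk (𝟙 _) (by
      change 𝟙 _ ≫ (b.left ≫ (X' i).hom) ≫ T.hom = Z.hom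
      rw [Category.id_comp, Category.assoc]
      exact Over.w b)
    have e4 := congrArg (F.map d.op) e3
    rw [← Functor.map_comp_apply, ← Functor.map_comp_apply, ← op_comp, ← op_comp] at e4
    have ea : d ≫ (Over.map T.hom).map b' = b := by ext; exact Category.id_comp _
    have eb : d ≫ (Over.map T.hom).map c' = c := by ext; exact Category.id_comp _
    rwa [ea, eb] at e4)
  have hfy : a.app _ y = F'.map (AlgSp.overHom T X).op ξ := by
    obtain ⟨z, -, hz⟩ := hF' (T := (Over.map T.hom).obj X) (fun i => (Over.map T.hom).obj (X' i))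
      (fun i => (Over.map T.hom).map (g i)) h1 h3 (fun i => F'.map ((Over.map T.hom).map (g i)).op (a.app _ y))
      (fun i j R b c hbc => by
        rw [← Functor.map_comp_apply, ← Functor.map_comp_apply, ← op_comp, ← op_comp, hbc])
    rw [hz _ fun i => rfl, hz (F'.map (AlgSp.overHom T X).op ξ) fun i => ?_]
    rw [← Functor.map_comp_apply, ← op_comp, AlgSp.map_comp_overHom, ← (x i).2, ← hy i]
    exact (NatTrans.naturality_apply a ((Over.map T.hom).map (g i)).op y).symm ▸ rfl
  refine ⟨⟨y, hfy⟩, fun i => Subtype.ext (hy i), fun z hz => Subtype.ext (hy' z.1 fun i => ?_)⟩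
  exact congrArg Subtype.val (hz i)

/-- The two ways of viewing a `V`-scheme as an `S`-scheme. -/
def eM {T V : Over S} (p : V ⟶ T) (X : Over V.left) :
    (Over.map T.hom).obj ((Over.map p.left).obj X) ≅ (Over.map V.hom).obj X :=
  Over.isoMk (Iso.refl _) (by
    change 𝟙 _ ≫ X.hom ≫ V.hom = (X.hom ≫ p.left) ≫ T.hom
    rw [Category.id_comp, Category.assoc, Over.w p])

theorem eM_overHom {T V : Over S} (p : V ⟶ T) (X : Over V.left) :
    (eM p X).hom ≫ AlgSp.overHom V X ≫ p = AlgSp.overHom T ((Over.map p.left).obj X) := by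
  ext1
  exact Category.id_comp _

theorem eM_naturality {T V : Over S} (p : V ⟶ T) {X Y : Over V.left} (f : X ⟶ Y) :
    (eM p X).hom ≫ (Over.map V.hom).map f = (Over.map T.hom).map ((Over.map p.left).map f) ≫ (eM p Y).hom := by
  ext1
  exact (Category.id_comp _).trans (Category.comp_id _).symm

theorem mapc (G : (Over S)ᵒᵖ ⥤ Type (u + 1)) {X Y Z : Over S} (f : X ⟶ Y) (g : Y ⟶ Z) (x : G.obj (op Z)) :
    G.map f.op (G.map g.op x) = G.map (f ≫ g).op x := by
  rw [op_comp, Functor.map_comp_apply]

theorem mapi (G : (Over S)ᵒᵖ ⥤ Type (u + 1)) {X : Over S} {f : X ⟶ X} (hf : f = 𝟙 X) (x : G.obj (op X)) :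
    G.map f.op x = x := by
  subst hf
  rw [op_id, Functor.map_id_apply]

theorem mapcg (G : (Over S)ᵒᵖ ⥤ Type (u + 1)) {X Y : Over S} {f g : X ⟶ Y} (h : f = g) (x : G.obj (op Y)) :
    G.map f.op x = G.map g.op x := by
  rw [h]

/-- The sections of the fibre over a restricted section. -/
noncomputable def fiberEquiv {T V : Over S} (p : V ⟶ T) (ξ : F'.obj (op T)) (X : Over V.left) :
    (AlgSp.fiberFun a V (F'.map p.op ξ)).obj (op X) ≃
      (AlgSp.fiberFun a T ξ).obj (op ((Over.map p.left).obj X)) where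
  toFun x := ⟨F.map (eM p X).hom.op x.1,
    (NatTrans.naturality_apply a (eM p X).hom.op x.1).trans ((congrArg (F'.map (eM p X).hom.op) x.2).trans
      ((congrArg (F'.map (eM p X).hom.op) (mapc F' (AlgSp.overHom V X) p ξ)).trans
        ((mapc F' (eM p X).hom (AlgSp.overHom V X ≫ p) ξ).trans (mapcg F' (eM_overHom p X) ξ))))⟩
  invFun x := ⟨F.map (eM p X).inv.op x.1,
    (NatTrans.naturality_apply a (eM p X).inv.op x.1).trans ((congrArg (F'.map (eM p X).inv.op) x.2).trans
      ((mapc F' (eM p X).inv (AlgSp.overHom T ((Over.map p.left).obj X)) ξ).trans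
        ((mapcg F' (g := AlgSp.overHom V X ≫ p) (by rw [← eM_overHom, Iso.inv_hom_id_assoc]) ξ).trans
          (mapc F' (AlgSp.overHom V X) p ξ).symm)))⟩
  left_inv x := Subtype.ext ((mapc F (eM p X).inv (eM p X).hom x.1).trans (mapi F (eM p X).inv_hom_id x.1))
  right_inv x := Subtype.ext ((mapc F (eM p X).hom (eM p X).inv x.1).trans (mapi F (eM p X).hom_inv_id x.1))

/-- The fibre over a restricted section. -/
noncomputable def fiberRep {T V : Over S} (p : V ⟶ T) (ξ : F'.obj (op T)) {A : Over V.left}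
    (r : (AlgSp.fiberFun a V (F'.map p.op ξ)).RepresentableBy A) :
    ((Over.map p.left).op ⋙ AlgSp.fiberFun a T ξ).RepresentableBy A where
  homEquiv {X} := r.homEquiv.trans (fiberEquiv a p ξ X)
  homEquiv_comp {X Y} f g := by
    change fiberEquiv a p ξ X (r.homEquiv (f ≫ g)) =
      (AlgSp.fiberFun a T ξ).map ((Over.map p.left).map f).op (fiberEquiv a p ξ Y (r.homEquiv g))
    rw [r.homEquiv_comp]
    exact Subtype.ext ((mapc F (eM p X).hom ((Over.map V.hom).map f) (r.homEquiv g).1).trans
      ((mapcg F (eM_naturality p f) (r.homEquiv g).1).trans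
        (mapc F ((Over.map T.hom).map ((Over.map p.left).map f)) (eM p Y).hom (r.homEquiv g).1).symm))

set_option backward.isDefEq.respectTransparency.types false in
/-- **Étale local nature of representability by affine morphisms locally of finite presentation.** -/
theorem mapRepWith_of_etale_local (hF : Presheaf.IsSheaf (QuotSh.J Scheme.etalePrecoverage S) F)
    (hF' : Presheaf.IsSheaf (QuotSh.J Scheme.etalePrecoverage S) F')
    (h : ∀ (T : Over S) (_ : IsAffine T.left) (ξ : F'.obj (op T)), ∃ c : K727.Sec.Cov @Etale T, ∀ j,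
      ∃ Z : Over (c.W j).left, (@IsAffineHom ⊓ @LocallyOfFinitePresentation : MorphismProperty Scheme.{u}) Z.hom ∧
        Nonempty ((AlgSp.fiberFun a (c.W j) (F'.map (c.p j).op ξ)).RepresentableBy Z)) :
    PicLoc.MapRepWith (@IsAffineHom ⊓ @LocallyOfFinitePresentation) a := by
  intro T ξ
  have key : ∀ t : T.left, ∃ (V : Over S) (p : V ⟶ T), Etale p.left ∧ t ∈ Set.range p.left ∧ IsAffine V.left ∧
      ∃ Z : Over V.left, (@IsAffineHom ⊓ @LocallyOfFinitePresentation : MorphismProperty Scheme.{u}) Z.hom ∧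
        Nonempty ((AlgSp.fiberFun a V (F'.map p.op ξ)).RepresentableBy Z) := by
    intro t
    obtain ⟨_, ⟨U', hU, rfl⟩, htU, -⟩ := T.left.isBasis_affineOpens.exists_subset_of_mem_open
      (Set.mem_univ t) isOpen_univ
    obtain ⟨U, rfl⟩ : ∃ U : T.left.Opens, U = U' := ⟨U', rfl⟩
    replace hU : IsAffineOpen U := hU
    let TU : Over S := Over.mk (U.ι ≫ T.hom)
    let j : TU ⟶ T := Over.homMk U.ι
    obtain ⟨c, hc⟩ := h TU hU (F'.map j.op ξ)
    obtain ⟨i, w, hw⟩ := c.surj ⟨t, htU⟩
    obtain ⟨Z, hZ, hr⟩ := hc i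
    have he : Etale (c.p i).left := c.prop i
    refine ⟨c.W i, c.p i ≫ j, ?_, ⟨w, ?_⟩, c.aff i, Z, hZ, ?_⟩
    · change Etale ((c.p i).left ≫ U.ι)
      infer_instance
    · change ((c.p i).left ≫ U.ι) w = t
      rw [Scheme.Hom.comp_apply, hw]
      rfl
    · have h1 : F'.map (c.p i ≫ j).op ξ = F'.map (c.p i).op (F'.map j.op ξ) := by
        rw [op_comp, Functor.map_comp_apply]
      rw [h1]
      exact hr
  choose V p h1 h2 h3 Z hZ r using key
  obtain ⟨W, ⟨rW⟩⟩ := exists_representableBy_of_etale
    (isEtSheafW_fiberFun a (isEtSheafW_of_isSheaf hF) (isEtSheafW_of_isSheaf hF') T ξ)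
    (fun t => ⟨(V t).left, (p t).left, h1 t, h2 t, Z t, ⟨fiberRep a (p t) ξ (r t).some⟩, fun U hU => by
      have h4 := h3 t
      have h5 : IsAffineHom (Z t).hom := (hZ t).1
      have h6 : IsAffine (Z t).left := isAffine_of_isAffineHom (Z t).hom
      have h7 : CompactSpace U := isCompact_iff_compactSpace.1 hU
      exact Scheme.IsQuasiAffine.of_isImmersion U.ι⟩)
  refine ⟨W, ?_, ⟨rW⟩⟩
  have hD : MorphismProperty.DescendsAlong @IsAffineHom
      (@Surjective ⊓ @Flat ⊓ @QuasiCompact : MorphismProperty Scheme.{u}) :=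
    Groth.Agent.Etbase.FpqcDescent.descendsAlong_isAffineHom
  have hP : ∀ t, IsAffineHom (pullback.snd W.hom (p t).left) ∧
      LocallyOfFinitePresentation (pullback.snd W.hom (p t).left) := fun t => by
    let e := (repPullback rW (p t).left).uniqueUpToIso (fiberRep a (p t) ξ (r t).some)
    have h5 : pullback.snd W.hom (p t).left = e.hom.left ≫ (Z t).hom := (Over.w e.hom).symm
    have h6 : IsIso e.hom.left := inferInstanceAs (IsIso ((Over.forget _).map e.hom))
    have h7 : IsAffineHom (Z t).hom := (hZ t).1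
    have h8 : LocallyOfFinitePresentation (Z t).hom := (hZ t).2
    rw [h5]
    exact ⟨inferInstance, inferInstance⟩
  constructor
  · refine of_flat_cover @IsAffineHom W.hom fun t => ?_
    have h4 := h1 t
    exact ⟨(V t).left, (p t).left, inferInstance, inferInstance, h2 t, (hP t).1⟩
  · refine of_flat_cover @LocallyOfFinitePresentation W.hom fun t => ?_
    have h4 := h1 t
    exact ⟨(V t).left, (p t).left, inferInstance, inferInstance, h2 t, (hP t).2⟩

end sheaf

end K472.EtLocal
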